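import Mathlib

/-!
# The minimal polynomial of an operator of prime order from its traces (helper607)
-/

set_option autoImplicit false

namespace Cfsg.Agent.H607.Feit.MinPoly

open Module Polynomial

variable {V : Type*} [AddCommGroup V] [Module ℂ V] [FiniteDimensional ℂ V]

/-- If the traces of the powers of `A`, `A ^ p = 1`, are combinations of powers of `a i`, then each eigenvalue of `A`
is one of the `a i`. -/
theorem eq_zero_of_eigen {p : ℕ} (hp : p ≠ 0) (A : Module.End ℂ V) (hA : A ^ p = 1) {ι : Type*} (S : Finset ι)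
    (w a : ι → ℂ) (ha : ∀ i ∈ S, a i ^ p = 1)
    (htr : ∀ j : ℕ, LinearMap.trace ℂ V (A ^ j) = ∑ i ∈ S, w i * a i ^ j) {μ : ℂ} (hμ : μ ^ p = 1)
    (hne : ∀ i ∈ S, a i ≠ μ) {v : V} (hv : A v = μ • v) : v = 0 := by
  classical
  have hμ0 : μ ≠ 0 := by
    rintro rfl
    rw [zero_pow hp] at hμ
    exact zero_ne_one hμ
  set E : Module.End ℂ V := (p : ℂ)⁻¹ • ∑ j ∈ Finset.range p, (μ⁻¹) ^ j • A ^ j with hE
  have hpC : (p : ℂ) ≠ 0 := Nat.cast_ne_zero.2 hp
  -- `A E = μ E`
  have h1 : A * E = μ • E := by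
    rw [hE, mul_smul_comm, smul_comm μ, Finset.mul_sum, Finset.smul_sum]
    congr 1
    have h2 : ∀ j, A * ((μ⁻¹) ^ j • A ^ j) = μ • ((μ⁻¹) ^ (j + 1) • A ^ (j + 1)) := by
      intro j
      rw [mul_smul_comm, smul_smul, ← pow_succ']
      congr 1
      rw [pow_succ (μ⁻¹) j]
      field_simp
    simp_rw [h2]
    rw [← Finset.smul_sum, ← Finset.smul_sum]
    congr 1
    have h3 := Finset.sum_range_succ (fun j => (μ⁻¹) ^ j • A ^ j) p
    have h4 := Finset.sum_range_succ' (fun j => (μ⁻¹) ^ j • A ^ j) p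
    rw [h3] at h4
    have h5 : (μ⁻¹) ^ p • A ^ p = (1 : Module.End ℂ V) := by rw [inv_pow, hμ, hA, inv_one, one_smul]
    rw [h5, pow_zero, pow_zero, one_smul] at h4
    exact congrArg (fun f : Module.End ℂ V => μ • f) (add_right_cancel h4).symm
  have h2 : ∀ j : ℕ, A ^ j * E = μ ^ j • E := by
    intro j
    induction j with
    | zero => simp
    | succ j ih => rw [pow_succ, mul_assoc, h1, mul_smul_comm, ih, smul_smul, ← pow_succ']
  have h3 : E * E = E := by
    conv_lhs => rw [hE]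
    rw [smul_mul_assoc, Finset.sum_mul]
    have h4 : ∀ j ∈ Finset.range p, ((μ⁻¹) ^ j • A ^ j) * E = E := by
      intro j _
      rw [smul_mul_assoc, h2, smul_smul, ← mul_pow, inv_mul_cancel₀ hμ0, one_pow, one_smul]
    rw [Finset.sum_congr rfl h4, Finset.sum_const, Finset.card_range, ← Nat.cast_smul_eq_nsmul ℂ, smul_smul,
      inv_mul_cancel₀ hpC, one_smul]
  have h4 : LinearMap.trace ℂ V E = 0 := by
    rw [hE, map_smul, map_sum]
    have h5 : ∑ j ∈ Finset.range p, LinearMap.trace ℂ V ((μ⁻¹) ^ j • A ^ j) = 0 := by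
      have h6 : ∀ j ∈ Finset.range p, LinearMap.trace ℂ V ((μ⁻¹) ^ j • A ^ j) =
          ∑ i ∈ S, w i * (μ⁻¹ * a i) ^ j := by
        intro j _
        rw [map_smul, htr, smul_eq_mul, Finset.mul_sum]
        refine Finset.sum_congr rfl fun i _ => ?_
        rw [mul_pow]
        ring
      rw [Finset.sum_congr rfl h6, Finset.sum_comm]
      refine Finset.sum_eq_zero fun i hi => ?_
      rw [← Finset.mul_sum]
      have h7 : (μ⁻¹ * a i - 1) * ∑ j ∈ Finset.range p, (μ⁻¹ * a i) ^ j = 0 := by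
        rw [mul_geom_sum, mul_pow, inv_pow, hμ, ha i hi]
        simp
      rcases mul_eq_zero.1 h7 with h8 | h8
      · exfalso
        apply hne i hi
        have h9 : μ⁻¹ * a i = 1 := sub_eq_zero.1 h8
        rwa [inv_mul_eq_one₀ hμ0, eq_comm] at h9
      · rw [h8, mul_zero]
    rw [h5, smul_zero]
  have h5 : E = 0 := LinearMap.IsIdempotentElem.eq_zero_of_trace_eq_zero (e := E) h3 h4
  have h6 : E v = v := by
    have h7 : ∀ j : ℕ, (A ^ j) v = μ ^ j • v := by
      intro j
      induction j with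
      | zero => simp
      | succ j ih => rw [pow_succ, Module.End.mul_apply, hv, map_smul, ih, smul_smul, ← pow_succ']
    rw [hE, LinearMap.smul_apply, LinearMap.sum_apply]
    have h8 : ∀ j ∈ Finset.range p, ((μ⁻¹) ^ j • A ^ j) v = v := by
      intro j _
      rw [LinearMap.smul_apply, h7, smul_smul, ← mul_pow, inv_mul_cancel₀ hμ0, one_pow, one_smul]
    rw [Finset.sum_congr rfl h8, Finset.sum_const, Finset.card_range, ← Nat.cast_smul_eq_nsmul ℂ, smul_smul,
      inv_mul_cancel₀ hpC, one_smul]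
  rw [← h6, h5, LinearMap.zero_apply]

/-- `A` is a root of the product of the `X - a i`. -/
theorem aeval_eq_zero {p : ℕ} (hp : p ≠ 0) (A : Module.End ℂ V) (hA : A ^ p = 1) {ι : Type*} (S : Finset ι)
    (w a : ι → ℂ) (ha : ∀ i ∈ S, a i ^ p = 1)
    (htr : ∀ j : ℕ, LinearMap.trace ℂ V (A ^ j) = ∑ i ∈ S, w i * a i ^ j) {T : Finset ℂ}
    (hT : ∀ i ∈ S, a i ∈ T) (hTp : ∀ s ∈ T, s ^ p = 1) : aeval A (∏ s ∈ T, (X - C s)) = 0 := by
  classical
  set R : Finset ℂ := nthRootsFinset p (1 : ℂ) with hR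
  have hmem : ∀ s : ℂ, s ∈ R ↔ s ^ p = 1 := fun s => mem_nthRootsFinset (Nat.pos_of_ne_zero hp) 1
  have hTR : T ⊆ R := fun s hs => (hmem s).2 (hTp s hs)
  have hprod : (∏ s ∈ R, (X - C s) : ℂ[X]) = X ^ p - 1 :=
    (X_pow_sub_one_eq_prod (Nat.pos_of_ne_zero hp) (Complex.isPrimitiveRoot_exp p hp)).symm
  have hinj : ∀ U : Finset ℂ, U ⊆ R \ T → Function.Injective (aeval A (∏ s ∈ U, (X - C s) : ℂ[X])) := by
    intro U
    induction U using Finset.induction_on with
    | empty =>
      intro _ u v huv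
      simpa using huv
    | insert s U hs ih =>
      intro hU
      rw [Finset.prod_insert hs, map_mul]
      have h1 : Function.Injective (aeval A (X - C s : ℂ[X])) := by
        rw [injective_iff_map_eq_zero]
        intro v hv
        have h2 := Finset.mem_sdiff.1 (hU (Finset.mem_insert_self s U))
        refine eq_zero_of_eigen hp A hA S w a ha htr (μ := s) ((hmem s).1 h2.1) ?_ ?_
        · rintro i hi rfl
          exact h2.2 (hT i hi)
        · rw [map_sub, aeval_X, aeval_C, LinearMap.sub_apply, Module.algebraMap_end_apply] at hv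
          exact sub_eq_zero.1 hv
      exact h1.comp (ih fun t ht => hU (Finset.mem_insert_of_mem ht))
  have h1 : aeval A ((∏ s ∈ R \ T, (X - C s)) * ∏ s ∈ T, (X - C s) : ℂ[X]) = 0 := by
    rw [Finset.prod_sdiff hTR, hprod]
    simp [hA]
  apply LinearMap.ext
  intro v
  apply hinj _ (Finset.Subset.refl _)
  rw [map_mul] at h1
  have h2 := congrArg (fun f : Module.End ℂ V => f v) h1
  rw [LinearMap.zero_apply, map_zero]
  exact h2

end Cfsg.Agent.H607.Feit.MinPoly
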