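import Mathlib
import Cfsg.Prelude.Def_Blocks
import Cfsg.Agent.H607.FromChar
import Cfsg.Agent.H607.Feit.Core
import Cfsg.Agent.H607.Feit.Reduce
import Cfsg.Agent.H607.Feit.MinPoly

/-!
# Few eigenvalues on a Sylow subgroup of order `p` (helper607)

`G` finite, `P` a Sylow `p`-subgroup of order `p ≥ 7`, not normal, `ζ` a faithful character of `G` whose restriction to
`P` involves only `E < p / 2` linear characters of `P`.  Then `p - 1 ≤ 2 E`, more precisely `(p - 1) / 2` powers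
`x ^ a`, `0 ≤ a < p`, are conjugate to `x`, and `G` has a normal subgroup `K` centralising `x` with
`G / K ≅ PSL(2,p)` or `PGL(2,p)`.
-/

set_option autoImplicit false

namespace Cfsg.Agent.H607.Feit.Half

open Module Matrix Polynomial
open Cfsg.Agent.LieRecognition.FT61

/-- Reduction modulo `p`, with the nilpotency index. -/
theorem exists_modular {G : Type*} [Group G] [Finite G] (p : ℕ) [Fact p.Prime] {n : ℕ}
    (σ : Representation ℂ G (Fin n → ℂ)) (hσ : Function.Injective σ) (P : Sylow p G) (hP : Nat.card P = p)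
    (hnn : ¬ (P : Subgroup G).Normal) (x : G) (T : Finset ℂ) (hT : ∀ s ∈ T, s ^ p = 1)
    (hx : aeval (σ x) (∏ s ∈ T, (X - C s)) = 0) :
    ∃ (K : Type) (_ : Field K) (_ : CharP K p) (_ : IsAlgClosed K) (ρ : Representation K G (Fin n → K)),
      Function.Injective ρ ∧ (ρ x - 1 : Module.End K (Fin n → K)) ^ T.card = 0 := by
  classical
  have hp : p.Prime := Fact.out
  let M : G →* Matrix (Fin n) (Fin n) ℂ :=
    ((LinearMap.toMatrixAlgEquiv' : _ ≃ₐ[ℂ] _).toMulEquiv.toMonoidHom).comp σ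
  have hM : Function.Injective M := (LinearMap.toMatrixAlgEquiv').injective.comp hσ
  let σ' : G →* GL (Fin n) ℂ := M.toHomUnits
  have hσ' : Function.Injective σ' := by
    intro a b hab
    exact hM (congrArg (fun t : GL (Fin n) ℂ => (t : Matrix (Fin n) (Fin n) ℂ)) hab)
  obtain ⟨k, _, _, τ, hτ, hτx⟩ := Reduce.exists_reduction p σ'
  have hτx := hτx x T hT (by
    have h1 := congrArg (LinearMap.toMatrixAlgEquiv' : _ ≃ₐ[ℂ] _) hx
    rw [map_zero] at h1
    rw [← h1]
    exact (Polynomial.aeval_algHom_apply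
      (LinearMap.toMatrixAlgEquiv' : _ ≃ₐ[ℂ] Matrix (Fin n) (Fin n) ℂ).toAlgHom _ _))
  -- the kernel of `τ` is a `p`-group
  have hker : IsPGroup p τ.ker := by
    rw [IsPGroup.iff_orderOf]
    intro g
    obtain ⟨m, r, hr, hmr⟩ := Nat.exists_eq_pow_mul_and_not_dvd (orderOf_pos g).ne' p hp.ne_one
    refine ⟨m, ?_⟩
    have h1 : orderOf (g ^ p ^ m) = r := by
      rw [orderOf_pow' g (pow_ne_zero m hp.ne_zero), hmr, Nat.gcd_mul_right_left]
      exact Nat.mul_div_cancel_left r (pow_pos hp.pos m)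
    have h2 : σ' ((g ^ p ^ m : τ.ker) : G) = 1 := by
      apply hτ
      · rw [Subgroup.orderOf_coe, h1]
        exact hr
      · exact (g ^ p ^ m).2
    have h3 : ((g ^ p ^ m : τ.ker) : G) = 1 := hσ' (by rw [h2, map_one])
    have h4 : g ^ p ^ m = 1 := Subtype.ext h3
    have h5 := orderOf_dvd_of_pow_eq_one h4
    have h6 : r ∣ 1 := by
      rw [h4, orderOf_one] at h1
      rw [h1]
    rw [hmr, Nat.dvd_one.1 h6, mul_one]
  have hinj : Function.Injective τ := by
    rw [← MonoidHom.ker_eq_bot_iff]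
    by_contra hne
    apply hnn
    have h1 : τ.ker ≤ (P : Subgroup G) := by
      have h3 := hker.to_sup_of_normal_left P.isPGroup'
      have h4 := P.is_maximal' h3 le_sup_right
      rw [← h4]
      exact le_sup_left
    have h2 : τ.ker = (P : Subgroup G) := by
      apply Subgroup.eq_of_le_of_card_ge h1
      have h3 : Nat.card (P : Subgroup G) = p := hP
      rw [h3]
      obtain ⟨m, hm⟩ := IsPGroup.iff_card.1 hker
      rw [hm]
      have h4 : m ≠ 0 := by
        rintro rfl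
        rw [pow_zero] at hm
        exact hne (Subgroup.eq_bot_of_card_eq _ hm)
      calc p = p ^ 1 := (pow_one p).symm
        _ ≤ p ^ m := Nat.pow_le_pow_right hp.pos (Nat.one_le_iff_ne_zero.2 h4)
    rw [← h2]
    infer_instance
  let K := AlgebraicClosure k
  let f : G →* Matrix (Fin n) (Fin n) K :=
    (((algebraMap k K).mapMatrix : _ →+* Matrix (Fin n) (Fin n) K).toMonoidHom).comp
      ((Units.coeHom (Matrix (Fin n) (Fin n) k)).comp τ)
  have hf : Function.Injective f := by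
    intro a b hab
    apply hinj
    apply Units.ext
    exact Matrix.map_injective (algebraMap k K).injective hab
  have hcp : CharP K p := charP_of_injective_algebraMap (algebraMap k K).injective p
  let ρ : Representation K G (Fin n → K) :=
    ((LinearMap.toMatrixAlgEquiv' : _ ≃ₐ[K] _).symm.toMulEquiv.toMonoidHom).comp f
  refine ⟨K, inferInstance, hcp, inferInstance, ρ,
    (LinearMap.toMatrixAlgEquiv' : _ ≃ₐ[K] _).symm.injective.comp hf, ?_⟩
  have h1 : (f x - 1) ^ T.card = 0 := by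
    have h2 : f x - 1 = (algebraMap k K).mapMatrix (((τ x : GL (Fin n) k) : Matrix (Fin n) (Fin n) k) - 1) := by
      rw [map_sub, map_one]
      rfl
    rw [h2, ← map_pow, hτx, map_zero]
  have h2 : (ρ x - 1 : Module.End K (Fin n → K)) =
      (LinearMap.toMatrixAlgEquiv' : _ ≃ₐ[K] Matrix (Fin n) (Fin n) K).symm (f x - 1) := by
    rw [map_sub, map_one]
    rfl
  rw [h2, ← map_pow, h1, map_zero]

/-- **Few eigenvalues.** -/
theorem main {G : Type*} [Group G] [Finite G] (p : ℕ) [Fact p.Prime] (hp7 : 7 ≤ p) (P : Sylow p G)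
    (hP : Nat.card P = p) (hnn : ¬ (P : Subgroup G).Normal) {ζ : G → ℂ} (hζ : Cfsg.IsCharacter G ζ)
    (hfaith : ∀ g : G, ζ g = ζ 1 → g = 1) {ι : Type*} (I : Finset ι) (l : ι → ((P : Subgroup G) →* ℂˣ))
    (w : ι → ℂ) (hval : ∀ x : (P : Subgroup G), ζ x = ∑ i ∈ I, w i * ((l i x : ℂˣ) : ℂ)) {E : ℕ}
    (hE : I.card ≤ E) (hE2 : 2 * E < p) {x : G} (hx : x ∈ (P : Subgroup G)) (hx1 : x ≠ 1) :
    ∃ (d : ℕ) (A : Finset ℕ) (K : Subgroup G) (_ : K.Normal),
      d ≤ A.card ∧ (∀ a ∈ A, a < p ∧ ∃ g : G, g * x * g⁻¹ = x ^ a) ∧ (∀ g ∈ K, g * x = x * g) ∧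
      ((d = p - 1 ∧ Nonempty (G ⧸ K ≃* Matrix.ProjGenLinGroup (Fin 2) (ZMod p))) ∨
        (2 * d = p - 1 ∧ Nonempty (G ⧸ K ≃* Matrix.ProjectiveSpecialLinearGroup (Fin 2) (ZMod p)))) := by
  classical
  have hp : p.Prime := Fact.out
  obtain ⟨n, σ, rfl⟩ := hζ
  have hσ : Function.Injective σ := by
    rw [injective_iff_map_eq_one]
    intro g hg
    apply hfaith
    unfold Representation.character
    rw [hg, map_one σ]
  have hxp : x ^ p = 1 := ThmC1.pow_eq_one_of_mem P hP hx
  have hlp : ∀ i, (((l i ⟨x, hx⟩ : ℂˣ) : ℂ)) ^ p = 1 := by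
    intro i
    have h1 : (⟨x, hx⟩ : (P : Subgroup G)) ^ p = 1 := Subtype.ext hxp
    rw [← Units.val_pow_eq_pow_val, ← map_pow, h1, map_one, Units.val_one]
  set T : Finset ℂ := I.image fun i => ((l i ⟨x, hx⟩ : ℂˣ) : ℂ) with hT
  have hTp : ∀ s ∈ T, s ^ p = 1 := by
    intro s hs
    obtain ⟨i, -, rfl⟩ := Finset.mem_image.1 hs
    exact hlp i
  have hae : aeval (σ x) (∏ s ∈ T, (X - C s)) = 0 := by
    refine MinPoly.aeval_eq_zero hp.ne_zero (σ x) (by rw [← map_pow, hxp, map_one]) I w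
      (fun i => ((l i ⟨x, hx⟩ : ℂˣ) : ℂ)) (fun i _ => hlp i) ?_ (fun i hi => Finset.mem_image_of_mem _ hi) hTp
    intro j
    have h1 := hval (⟨x, hx⟩ ^ j)
    rw [← map_pow]
    refine Eq.trans ?_ (h1.trans ?_)
    · rfl
    · refine Finset.sum_congr rfl fun i _ => ?_
      rw [map_pow, Units.val_pow_eq_pow_val]
  obtain ⟨k, _, _, _, ρ, hρ, hnil⟩ := exists_modular p σ hσ P hP hnn x T hTp hae
  have hcard : T.card ≤ E := Finset.card_image_le.trans hE
  have hsq : ¬ p ^ 2 ∣ Nat.card G := by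
    intro h
    have h1 : Nat.card P = p ^ (Nat.card G).factorization p := P.card_eq_multiplicity
    have h2 := (hp.pow_dvd_iff_le_factorization Nat.card_pos.ne').1 h
    rw [hP] at h1
    have h3 : p ^ 2 ≤ p ^ (Nat.card G).factorization p := Nat.pow_le_pow_right hp.pos h2
    rw [← h1, sq] at h3
    have h4 := Nat.mul_lt_mul_of_pos_left hp.one_lt hp.pos
    omega
  exact Core.modular p ρ hρ (m := T.card) (by omega) P hP hsq hx hx1 hp7 hnil hnn

end Cfsg.Agent.H607.Feit.Half
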