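import Mathlib
import Cfsg.Agent.H607.Feit.Half
import Cfsg.Agent.H655.Dichotomy

/-!
# The plus case of the dichotomy (helper607)

`P` a Sylow `p`-subgroup of order `p ≥ 7`, not normal, `ζ` a faithful irreducible character in the plus case
(`ζ(1) = E θ(1)`).  Then `2 E = p - 1` (`two_mul`); if moreover `ζ(1) < p - 1` then `ζ(1) = (p - 1) / 2` and
`G / Z(G) ≅ PSL(2, p)` (`main`).
-/

set_option autoImplicit false
set_option linter.unusedSectionVars false

namespace Cfsg.Agent.H607.Feit.Plus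

open Subgroup Cfsg
open Cfsg.Agent.LieRecognition.FT61
open Cfsg.Agent.SmallSimple.ThetaSetup Cfsg.Agent.SmallSimple.ThetaCount Cfsg.Agent.SmallSimple.TheoremC
open Cfsg.Agent.H655.Dichotomy

variable {G : Type*} [Group G] [Finite G] {p : ℕ} [Fact p.Prime] {P : Sylow p G} {K : Subgroup G}

/-- The number of powers of `x` conjugate to `x` is at most `|N(P) : C(P)|`. -/
theorem card_le_relIndex (hP : Nat.card P = p) {x : G} (hx : x ∈ (P : Subgroup G)) (hx1 : x ≠ 1) (A : Finset ℕ)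
    (hA : ∀ a ∈ A, a < p ∧ ∃ g : G, g * x * g⁻¹ = x ^ a) :
    A.card ≤ (centralizer ((P : Subgroup G) : Set G)).relIndex (normalizer ((P : Subgroup G) : Set G)) := by
  classical
  have hPx := ThmC1.zpowers_eq P hP hx hx1
  have hxo : orderOf x = p := orderOf_eq_prime (ThmC1.pow_eq_one_of_mem P hP hx) hx1
  choose g hg using fun a : A => (hA a a.2).2
  have hgN : ∀ a : A, g a ∈ normalizer ((P : Subgroup G) : Set G) := by
    intro a
    rw [Subgroup.mem_normalizer_iff_map_conj_eq]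
    apply Subgroup.eq_of_le_of_card_ge
    · rintro _ ⟨y, hy, rfl⟩
      rw [SetLike.mem_coe, ← hPx] at hy
      obtain ⟨m, rfl⟩ := hy
      show g a * x ^ m * (g a)⁻¹ ∈ (P : Subgroup G)
      rw [← conj_zpow, hg a]
      exact (P : Subgroup G).zpow_mem ((P : Subgroup G).pow_mem hx _) _
    · rw [Subgroup.card_map_of_injective (MulEquiv.injective _)]
  set N := normalizer ((P : Subgroup G) : Set G) with hN
  set C := centralizer ((P : Subgroup G) : Set G) with hC
  let f : A → N ⧸ (C.subgroupOf N) := fun a => QuotientGroup.mk ⟨g a, hgN a⟩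
  have hf : Function.Injective f := by
    intro a b hab
    have h1 : (⟨g a, hgN a⟩ : N)⁻¹ * ⟨g b, hgN b⟩ ∈ C.subgroupOf N := QuotientGroup.eq.1 hab
    have h2 : (g a)⁻¹ * g b ∈ C := h1
    rw [hC, Subgroup.mem_centralizer_iff] at h2
    have h3 := h2 x hx
    have h4 : x ^ (a : ℕ) = x ^ (b : ℕ) := by
      rw [← hg a, ← hg b]
      calc g a * x * (g a)⁻¹ = g a * (x * ((g a)⁻¹ * g b)) * (g b)⁻¹ := by group
        _ = g a * (((g a)⁻¹ * g b) * x) * (g b)⁻¹ := by rw [h3]
        _ = g b * x * (g b)⁻¹ := by group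
    apply Subtype.ext
    rw [pow_inj_mod, hxo, Nat.mod_eq_of_lt (hA a a.2).1, Nat.mod_eq_of_lt (hA b b.2).1] at h4
    exact h4
  have : Finite (N ⧸ (C.subgroupOf N)) := inferInstance
  have h1 := Nat.card_le_card_of_injective f hf
  rw [Nat.card_eq_fintype_card, Fintype.card_coe] at h1
  exact h1

theorem exists_mem (hP : Nat.card P = p) : ∃ x ∈ (P : Subgroup G), x ≠ 1 := by
  have hp : p.Prime := Fact.out
  by_contra hcon
  push Not at hcon
  have h1 : (P : Subgroup G) = ⊥ := (Subgroup.eq_bot_iff_forall _).2 hcon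
  have h2 : Nat.card (P : Subgroup G) = 1 := by rw [h1]; simp
  have h3 : Nat.card (P : Subgroup G) = p := hP
  rw [h2] at h3
  exact hp.one_lt.ne h3

/-- **`t = 2` in the plus case.** -/
theorem two_mul (hp7 : 7 ≤ p) (hP : Nat.card P = p) (hnn : ¬ (P : Subgroup G).Normal)
    {ζ : IrrCharacter G} (hfaith : ∀ g : G, (ζ : G → ℂ) g = (ζ : G → ℂ) 1 → g = 1) {E t : ℕ}
    (h : Plus P K ζ E t) : 2 * E = p - 1 ∧ t = 2 := by
  classical
  have hp : p.Prime := Fact.out
  obtain ⟨x, hx, hx1⟩ := exists_mem hP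
  obtain ⟨θ, -, S, hS, hval⟩ := h.theta
  have ht := h.het
  have h2 := h.two_le
  have hE2 : 2 * E ≤ p - 1 := by
    rw [← ht, mul_comm]
    exact Nat.mul_le_mul_left _ h2
  let I : Finset (Σ _ : IrrCharacter K, ((P : Subgroup G) →* ℂˣ)) := (orb P K (θ : K → ℂ)).sigma S
  have hI : I.card ≤ E := by
    rw [Finset.card_sigma]
    have h0 : 0 < (orb P K (θ : K → ℂ)).card := Finset.card_pos.2 ⟨θ, self_mem_orb θ⟩
    have h1 : (∑ θ' ∈ orb P K (θ : K → ℂ), (S θ').card) * (orb P K (θ : K → ℂ)).card =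
        E * (orb P K (θ : K → ℂ)).card := by
      rw [Finset.sum_mul, Finset.sum_congr rfl fun θ' _ => (hS θ').1, Finset.sum_const, smul_eq_mul, mul_comm]
    exact (Nat.eq_of_mul_eq_mul_right h0 h1).le
  obtain ⟨d, A, H, hH, hdA, hA, -, hd⟩ := Half.main p hp7 P hP hnn (Blocks.Basic.irr_isCharacter ζ.2) hfaith I (fun i => i.2)
    (fun _ => (θ : K → ℂ) 1) (by
      intro x
      rw [hval x, ← Finset.mul_sum, Finset.sum_sigma]) hI (by omega) hx hx1
  have h1 := card_le_relIndex hP hx hx1 A hA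
  rw [h.relIndex] at h1
  have h3 : 2 * E = p - 1 := by
    rcases hd with ⟨hd, -⟩ | ⟨hd, -⟩ <;> omega
  refine ⟨h3, ?_⟩
  have hE : 0 < E := by omega
  have h4 : E * t = E * 2 := by rw [ht, ← h3, mul_comm]
  exact Nat.eq_of_mul_eq_mul_left hE h4

/-- **The plus case.** -/
theorem main (hp7 : 7 ≤ p) (hP : Nat.card P = p) (hnn : ¬ (P : Subgroup G).Normal)
    {ζ : IrrCharacter G} (hfaith : ∀ g : G, (ζ : G → ℂ) g = (ζ : G → ℂ) 1 → g = 1) {E t : ℕ}
    (h : Plus P K ζ E t) (hdeg : charDegree (ζ : G → ℂ) < p - 1) :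
    2 * E = p - 1 ∧ t = 2 ∧ 2 * charDegree (ζ : G → ℂ) = p - 1 ∧
      Nonempty ((G ⧸ Subgroup.center G) ≃* Matrix.ProjectiveSpecialLinearGroup (Fin 2) (ZMod p)) := by
  classical
  have hp : p.Prime := Fact.out
  obtain ⟨hE, ht⟩ := two_mul hp7 hP hnn hfaith h
  obtain ⟨θ, hθ, -⟩ := h.theta
  obtain ⟨n, hn0, hn⟩ := Cfsg.Agent.Characters.Core.isIrr_apply_one θ.2
  have h1 : charDegree (ζ : G → ℂ) = E * n := by
    unfold charDegree
    rw [hθ, hn, ← Nat.cast_mul, Complex.natCast_re, Nat.floor_natCast]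
  rw [h1, ← hE] at hdeg
  have hn1 : n = 1 := by
    have h2 : n < 2 := by
      by_contra h3
      have h4 : E * 2 ≤ E * n := Nat.mul_le_mul_left _ (by omega)
      omega
    omega
  rw [hn1, mul_one] at h1
  have hdiv : p ∣ Nat.card G := by
    rw [← hP]
    exact Subgroup.card_subgroup_dvd_card _
  have hcp : Nat.card P = p ^ (Nat.card G).factorization p := P.card_eq_multiplicity
  have hsq : ¬ p ^ 2 ∣ Nat.card G := by
    intro h
    have h2 := (hp.pow_dvd_iff_le_factorization Nat.card_pos.ne').1 h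
    rw [hP] at hcp
    have h3 : p ^ 2 ≤ p ^ (Nat.card G).factorization p := Nat.pow_le_pow_right hp.pos h2
    rw [← hcp, sq] at h3
    have h4 := Nat.mul_lt_mul_of_pos_left hp.one_lt hp.pos
    omega
  have hnH : ∀ H : Subgroup G, H.Normal → Nat.card H ≠ p := by
    intro H hH hc
    apply hnn
    have h2 : IsPGroup p H := IsPGroup.of_card (n := 1) (by rw [hc, pow_one])
    have h3 : H ≤ (P : Subgroup G) := by
      have h4 := h2.to_sup_of_normal_left P.isPGroup'
      have h5 := P.is_maximal' h4 le_sup_right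
      rw [← h5]
      exact le_sup_left
    have h4 : H = (P : Subgroup G) := Subgroup.eq_of_le_of_card_ge h3 (by rw [hc]; exact hP.le)
    rw [← h4]
    exact hH
  obtain ⟨h2, h3⟩ := FromChar.main p hp hdiv hsq hnH (ζ : G → ℂ) (Blocks.Basic.irr_isCharacter ζ.2) hfaith (by
    rw [h1]; omega)
  exact ⟨hE, ht, by rw [h1]; exact hE, h3⟩

end Cfsg.Agent.H607.Feit.Plus
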